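import Cfsg.Agent.Lib.Axial.SakumaEquations

/-!
The axis sequence of two Majorana involutions, and the bound six on the order of their product.
-/

set_option autoImplicit false

namespace CfsgLib.Sakuma

open Cfsg.Axial

variable {V : Type*} [AddCommGroup V] [Module ℝ V]
  {mul : V →ₗ[ℝ] V →ₗ[ℝ] V} {B : LinearMap.BilinForm ℝ V}

theorem product_order_le_six (hV : IsMajoranaAmbient mul B) {μ₀ μ₁ : V ≃ₗ[ℝ] V} {a₀ a₁ : V}
    (h₀ : IsMajoranaPair mul B μ₀ a₀) (h₁ : IsMajoranaPair mul B μ₁ a₁)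
    (hn₀ : B a₀ a₀ = 1) (hn₁ : B a₁ a₁ = 1) :
    ∃ n : ℕ, 1 ≤ n ∧ n ≤ 6 ∧ (μ₀ * μ₁) ^ n = 1 := by
  obtain ⟨U, hU⟩ : ∃ U, U = μ₁ * μ₀ := ⟨_, rfl⟩
  have i0 : μ₀⁻¹ = μ₀ := inv_eq_of_mul_eq_one_right (sq_one h₀)
  have i1 : μ₁⁻¹ = μ₁ := inv_eq_of_mul_eq_one_right (sq_one h₁)
  have hUi : U⁻¹ = μ₀ * μ₁ := by rw [hU, mul_inv_rev, i0, i1]
  have haut : ∀ k : ℤ, U ^ k ∈ autGroup mul B := fun k => zpow_mem
    (hU ▸ mul_mem (show μ₁ ∈ autGroup mul B from ⟨h₁.1, h₁.2.1⟩) ⟨h₀.1, h₀.2.1⟩) k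
  have sc : ∀ μ : V ≃ₗ[ℝ] V, SemiconjBy μ U U⁻¹ → ∀ k : ℤ, μ * U ^ k = U ^ (-k) * μ := by
    intro μ h k
    rw [zpow_neg, ← inv_zpow]
    exact (h.zpow_right k).eq
  have c0 := sc μ₀ (by
    show μ₀ * U = U⁻¹ * μ₀
    rw [hUi, hU, mul_assoc μ₀ μ₁ μ₀])
  have c1 := sc μ₁ (by
    show μ₁ * U = U⁻¹ * μ₁
    rw [hUi, hU, ← mul_assoc μ₁, sq_one h₁, one_mul, mul_assoc μ₀, sq_one h₁, mul_one])
  have hm1 : μ₁ = U * μ₀ := by rw [hU, mul_assoc, sq_one h₀, mul_one]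
  have cat : ∀ (i j : ℤ) (v : V), (U ^ i) ((U ^ j) v) = (U ^ (i + j)) v := fun i j v => by
    rw [zpow_add]; rfl
  let ax : ℤ → V := fun i => if i % 2 = 0 then (U ^ (i / 2)) a₀ else (U ^ (i / 2)) a₁
  have axe : ∀ k : ℤ, ax (2 * k) = (U ^ k) a₀ := fun k => by
    simp only [ax, Int.mul_emod_right, if_true, Int.mul_ediv_cancel_left k (show (2:ℤ) ≠ 0 by norm_num)]
  have axo : ∀ k : ℤ, ax (2 * k + 1) = (U ^ k) a₁ := fun k => by
    have e1 : (2 * k + 1) % 2 = 1 := by omega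
    have e2 : (2 * k + 1) / 2 = k := by omega
    simp [ax, e1, e2]
  have hax : ∀ i, IsMajoranaPair mul B (U ^ i * μ₀) (ax i) ∧ B (ax i) (ax i) = 1 := by
    intro i
    obtain ⟨k, rfl | rfl⟩ := Int.even_or_odd' i
    · rw [axe, (haut k).2]
      refine ⟨?_, hn₀⟩
      have := pair_map (haut k) h₀
      rwa [← zpow_neg, mul_assoc, c0, neg_neg, ← mul_assoc, ← zpow_add, ← two_mul] at this
    · rw [axo, (haut k).2]
      refine ⟨?_, hn₁⟩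
      have := pair_map (haut k) h₁
      rw [← zpow_neg, mul_assoc, c1, neg_neg, ← mul_assoc, ← zpow_add, ← two_mul, hm1,
        ← mul_assoc, ← zpow_add_one] at this
      exact this
  have f0 : μ₀ a₀ = a₀ := fix_axis h₀
  have f1 : μ₀ a₁ = (U ^ (-1 : ℤ)) a₁ := by
    rw [zpow_neg_one, hUi]; exact (congrArg μ₀ (fix_axis h₁)).symm
  have hrefl : ∀ i j : ℤ, (U ^ i * μ₀) (ax j) = ax (2 * i - j) := by
    intro i j
    obtain ⟨k, rfl | rfl⟩ := Int.even_or_odd' j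
    · rw [axe, show 2 * i - 2 * k = 2 * (i - k) by ring, axe]
      show (U ^ i * μ₀ * U ^ k) a₀ = _
      rw [mul_assoc, c0]
      show (U ^ i) ((U ^ (-k)) (μ₀ a₀)) = _
      rw [f0, cat, sub_eq_add_neg]
    · rw [axo, show 2 * i - (2 * k + 1) = 2 * (i - k - 1) + 1 by ring, axo]
      show (U ^ i * μ₀ * U ^ k) a₁ = _
      rw [mul_assoc, c0]
      show (U ^ i) ((U ^ (-k)) (μ₀ a₁)) = _
      rw [f1, cat, cat]
      congr 2
  let S : AxSeq mul B := ⟨hV, ax, fun i => U ^ i * μ₀, fun i => (hax i).1, fun i => (hax i).2, hrefl⟩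
  obtain ⟨n, h1n, hn6, hn⟩ := S.exists_period
  refine ⟨n, h1n, hn6, ?_⟩
  have hu := pair_unique (S.pair n) (hn.symm ▸ S.pair 0)
  have : U ^ (n : ℤ) = 1 := mul_right_cancel (b := μ₀) (by simpa [S] using hu)
  rw [← hUi, inv_pow, ← zpow_natCast, this, inv_one]

end CfsgLib.Sakuma
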