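import Cfsg.Agent.Lib.Axial.SakumaScalar

/-!
The two equations for the inner products `L` and `M` at distances one and two, and the
resulting list of possibilities (Sakuma's nine algebras).
-/

set_option autoImplicit false

namespace CfsgLib.Sakuma.AxSeq

open Cfsg.Axial

variable {V : Type*} [AddCommGroup V] [Module ℝ V]
  {mul : V →ₗ[ℝ] V →ₗ[ℝ] V} {B : LinearMap.BilinForm ℝ V} (S : AxSeq mul B)

set_option maxHeartbeats 1000000 in
theorem equations :
    let l := 256 * S.G 1 0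
    let m := 256 * S.G 2 0
    (79872 - 38400 * l + 5760 * l ^ 2 - 1336 * m - 284 * l ^ 3 + 278 * l * m + l ^ 4
        + 5 * l ^ 2 * m + 4 * m ^ 2 = 0) ∧
      (-2476032 + 3462144 * l - 1249920 * l ^ 2 - 73784 * m + 167204 * l ^ 3 - 10580 * l * m
        - 7744 * l ^ 4 + 4426 * l ^ 2 * m + 326 * m ^ 2 + 27 * l ^ 5 + 180 * l ^ 3 * m
        + 153 * l * m ^ 2 = 0) := by
  intro l m
  have hX := S.relation' 0
  norm_num only [zero_add, zero_sub] at hX
  have n1 : B (S.a 3) (S.a 3) = 1 := S.norm 3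
  have n2 : B (mul (S.a 0) (S.a 3)) (S.a 3) = S.G 3 0 := by
    rw [S.assoc, S.idem]; rfl
  rw [hX] at n1 n2
  -- inner products of the seven spanning vectors
  have g01 : B (S.a 0) (S.a 1) = S.G 1 0 := rfl
  have g02 : B (S.a 0) (S.a 2) = S.G 2 0 := rfl
  have g0m1 : B (S.a 0) (S.a (-1)) = S.G 1 0 := by simpa using S.G_prev 1 0
  have g0m2 : B (S.a 0) (S.a (-2)) = S.G 2 0 := by simpa using S.G_prev 2 0
  have g12 : B (S.a 1) (S.a 2) = S.G 1 0 := S.G_one 1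
  have g1m1 : B (S.a (-1)) (S.a 1) = S.G 2 0 := S.G_two (-1)
  have g2m1 : B (S.a (-1)) (S.a 2) = S.G 3 0 := S.G_three (-1)
  have g1m2 : B (S.a (-2)) (S.a 1) = S.G 3 0 := S.G_three (-2)
  have g2m2 : B (S.a (-2)) (S.a 2) = S.G 4 0 := by
    have : S.G 4 (-2) = S.G 4 0 := by rw [S.G_four, S.G_four]
    exact this
  have g12m : B (S.a (-2)) (S.a (-1)) = S.G 1 0 := S.G_one (-2)
  have r10 := S.symm (S.a 1) (S.a 0)
  have r20 := S.symm (S.a 2) (S.a 0)
  have rm10 := S.symm (S.a (-1)) (S.a 0)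
  have rm20 := S.symm (S.a (-2)) (S.a 0)
  have r21 := S.symm (S.a 2) (S.a 1)
  have r1m1 := S.symm (S.a 1) (S.a (-1))
  have r2m1 := S.symm (S.a 2) (S.a (-1))
  have r1m2 := S.symm (S.a 1) (S.a (-2))
  have r2m2 := S.symm (S.a 2) (S.a (-2))
  have r12m := S.symm (S.a (-1)) (S.a (-2))
  have t2 : S.T 2 2 = S.T 2 0 := S.T_two_add 0
  have tm2 : S.T 2 (-2) = S.T 2 0 := by simpa using (S.T_two_add (-2)).symm
  have tm1 : S.T 2 (-1) = S.T 2 1 := by simpa using S.T_two_pred 0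
  have t3 : S.T 2 3 = S.T 2 1 := S.T_two_add 1
  have f00 := S.form_self2 0
  have f11 := S.form_self2 1
  have f01 := S.form_other2 0
  have f10 := S.form_other2 1
  have f22 := S.form_self2 2
  have f23 := S.form_other2 2
  have fm2 := S.form_self2 (-2)
  have fm21 := S.form_other2 (-2)
  have fm1 := S.form_self2 (-1)
  have fm10 := S.form_other2 (-1)
  norm_num only [zero_add] at f01 f10 f23 fm21 fm10
  rw [t2] at f10 f22
  rw [t3] at f23
  rw [tm2] at fm2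
  rw [tm1] at fm21 fm1
  have ee := S.form_T_two_self 0
  have oo := S.form_T_two_self 1
  have eo := S.form_T_two_cross 0
  norm_num only [zero_add] at eo
  have oe := (S.symm (S.T 2 1) (S.T 2 0)).trans eo
  have se := S.form_T_two_sigma 0
  have so := S.form_T_two_sigma 1
  rw [S.G_two] at so
  have s0 := S.form_sigma 0
  have s1 := S.form_sigma 1
  have s2 := S.form_sigma 2
  have sm1 := S.form_sigma (-1)
  have sm2 := S.form_sigma (-2)
  have y1 := fun i : ℤ => S.symm (S.T 1 0) (S.a i)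
  have y2 := fun i j : ℤ => S.symm (S.T 2 j) (S.a i)
  have y3 := fun j : ℤ => S.symm (S.T 1 0) (S.T 2 j)
  have m1 : mul (S.a 0) (S.a 1) = S.T 1 0 + (1 / 32 : ℝ) • (S.a 0 + S.a 1) := S.mul_next 1 0
  have m2 : mul (S.a 0) (S.a 2) = S.T 2 0 + (1 / 32 : ℝ) • (S.a 0 + S.a 2) := S.mul_next 2 0
  have mm1 : mul (S.a 0) (S.a (-1)) = S.T 1 0 + (1 / 32 : ℝ) • (S.a 0 + S.a (-1)) := by
    simpa using S.mul_prev 1 0
  have mm2 : mul (S.a 0) (S.a (-2)) = S.T 2 0 + (1 / 32 : ℝ) • (S.a 0 + S.a (-2)) := by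
    simpa using S.mul_prev 2 0
  have me := S.mul_T 2 0
  have mo := S.mul_T_two_next 0
  norm_num only [zero_add, zero_sub] at me mo
  rw [S.G_two 1] at mo
  simp only [map_sub, map_add, map_smul, LinearMap.sub_apply, LinearMap.add_apply,
    LinearMap.smul_apply, smul_eq_mul, S.idem, m1, m2, mm1, mm2, me, mo, S.norm,
    y1, y2, y3, r10, r20, rm10, rm20, r21, r1m1, r2m1, r1m2, r2m2, r12m,
    g01, g02, g0m1, g0m2, g12, g1m1, g2m1, g1m2, g2m2, g12m,
    f00, f11, f01, f10, f22, f23, fm2, fm21, fm1, fm10, ee, oo, eo, oe, se, so,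
    s0, s1, s2, sm1, sm2] at n1 n2
  simp only [S.G_four 0, S.G_three_eq, coef] at n1 n2
  refine ⟨?_, ?_⟩
  · linear_combination (1792 / 3 : ℝ) * n1
  · linear_combination (802816 : ℝ) * n2

theorem solutions_scalar (l m : ℝ)
    (hA : 79872 - 38400 * l + 5760 * l ^ 2 - 1336 * m - 284 * l ^ 3 + 278 * l * m + l ^ 4
        + 5 * l ^ 2 * m + 4 * m ^ 2 = 0)
    (hB : -2476032 + 3462144 * l - 1249920 * l ^ 2 - 73784 * m + 167204 * l ^ 3
        - 10580 * l * m - 7744 * l ^ 4 + 4426 * l ^ 2 * m + 326 * m ^ 2 + 27 * l ^ 5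
        + 180 * l ^ 3 * m + 153 * l * m ^ 2 = 0) :
    (l = 256 ∧ m = 256) ∨ (l = 32 ∧ m = 256) ∨ (l = 0 ∧ m = 256) ∨ (l = 13 ∧ m = 13) ∨
    (l = 4 ∧ m = 4) ∨ (l = 4 ∧ m = 32) ∨ (l = 8 ∧ m = 0) ∨ (l = 6 ∧ m = 6) ∨
    (l = 5 ∧ m = 13) := by
  have e : (l - 4) * ((l ^ 2 + 592 * l + 780) * m
      + (l - 8) * (l ^ 3 - 258 * l ^ 2 - 464 * l + 24960)) = 0 := by
    linear_combination (-4 / 45 : ℝ) * hB + (153 * l + 326) / 45 * hA
  rcases mul_eq_zero.mp e with h4 | hlin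
  · obtain rfl : l = 4 := by linarith
    have : (m - 4) * (m - 32) = 0 := by linear_combination (1 / 4 : ℝ) * hA
    rcases mul_eq_zero.mp this with h | h
    · exact Or.inr <| Or.inr <| Or.inr <| Or.inr <| Or.inl ⟨rfl, by linarith⟩
    · exact Or.inr <| Or.inr <| Or.inr <| Or.inr <| Or.inr <| Or.inl ⟨rfl, by linarith⟩
  have hp : l * (l - 5) * (l - 6) * (l - 8) * (l - 13) * (l - 32) * (l - 256) = 0 := by
    linear_combination (-(l ^ 2 + 592 * l + 780) ^ 2 / 3136) * hA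
      + ((4 * ((l ^ 2 + 592 * l + 780) * m
          - (l - 8) * (l ^ 3 - 258 * l ^ 2 - 464 * l + 24960)))
        + (5 * l ^ 2 + 278 * l - 1336) * (l ^ 2 + 592 * l + 780)) / 3136 * hlin
  simp only [mul_eq_zero, sub_eq_zero, or_assoc] at hp
  rcases hp with rfl | rfl | rfl | rfl | rfl | rfl | rfl <;>
    norm_num at hlin ⊢ <;> linarith

theorem solutions :
    let l := 256 * S.G 1 0
    let m := 256 * S.G 2 0
    (l = 256 ∧ m = 256) ∨ (l = 32 ∧ m = 256) ∨ (l = 0 ∧ m = 256) ∨ (l = 13 ∧ m = 13) ∨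
    (l = 4 ∧ m = 4) ∨ (l = 4 ∧ m = 32) ∨ (l = 8 ∧ m = 0) ∨ (l = 6 ∧ m = 6) ∨
    (l = 5 ∧ m = 13) :=
  solutions_scalar _ _ S.equations.1 S.equations.2

theorem G_five : S.G 5 0 = (S.G 0 0 - (256 * S.G 1 0 - 6) * (S.G 4 0 - S.G 1 0)
    - coef (S.G 1 0) (S.G 2 0) * (S.G 3 0 - S.G 2 0) - 30 * (S.G 2 0 - S.G 1 0)) := by
  have r := congrArg (B (S.a 0)) (S.relation' 2)
  norm_num only at r
  have t : S.T 2 2 = S.T 2 0 := S.T_two_add 0
  have t3 : S.T 2 3 = S.T 2 1 := S.T_two_add 1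
  have f := S.form_other2 0
  norm_num only [zero_add] at f
  have g : ∀ n : ℤ, B (S.a 0) (S.a n) = S.G n 0 := fun n => by rw [G, zero_add]
  simp only [map_sub, map_smul, smul_eq_mul, t, t3, f, S.form_self2, g] at r
  linear_combination r

theorem G_six : S.G 6 0 = S.G 1 0 - (256 * S.G 1 0 - 6) * (S.G 5 0 - S.G 2 0)
    - coef (S.G 1 0) (S.G 2 0) * (S.G 4 0 - S.G 3 0) + 30 * (S.G 2 0 - S.G 1 0) := by
  have r := congrArg (B (S.a 0)) (S.relation' 3)
  norm_num only at r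
  have t : S.T 2 3 = S.T 2 1 := S.T_two_add 1
  have t4 : S.T 2 4 = S.T 2 0 := (S.T_two_add 2).trans (S.T_two_add 0)
  have f := S.form_other2 0
  norm_num only [zero_add] at f
  have g : ∀ n : ℤ, B (S.a 0) (S.a n) = S.G n 0 := fun n => by rw [G, zero_add]
  simp only [map_sub, map_smul, smul_eq_mul, t, t4, f, S.form_self2, g] at r
  linear_combination r

theorem exists_period : ∃ n : ℕ, 1 ≤ n ∧ n ≤ 6 ∧ S.a n = S.a 0 := by
  have fin : ∀ n : ℕ, S.G n 0 = 1 → S.a n = S.a 0 := by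
    intro n hn
    by_contra hne
    have h := S.amb.2.2.1 (S.a n - S.a 0) (sub_ne_zero.mpr hne)
    rw [G, zero_add] at hn
    simp only [map_sub, LinearMap.sub_apply, S.norm, S.symm (S.a n) (S.a 0), hn] at h
    linarith
  have h0 : S.G 0 0 = 1 := by rw [G, zero_add]; exact S.norm 0
  suffices S.G 1 0 = 1 ∨ S.G 2 0 = 1 ∨ S.G 3 0 = 1 ∨ S.G 4 0 = 1 ∨ S.G 5 0 = 1 ∨ S.G 6 0 = 1 by
    rcases this with h | h | h | h | h | h
    exacts [⟨1, by norm_num, by norm_num, fin 1 h⟩, ⟨2, by norm_num, by norm_num, fin 2 h⟩,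
      ⟨3, by norm_num, by norm_num, fin 3 h⟩, ⟨4, by norm_num, by norm_num, fin 4 h⟩,
      ⟨5, by norm_num, by norm_num, fin 5 h⟩, ⟨6, by norm_num, by norm_num, fin 6 h⟩]
  have e6 := S.G_six
  have e5 := S.G_five
  have e4 := S.G_four 0
  have e3 := S.G_three_eq
  simp only [coef] at e3 e4 e5 e6
  rcases S.solutions with h | h | h | h | h | h | h | h | h <;> obtain ⟨hl, hm⟩ := h
  all_goals
    have hL := eq_div_of_mul_eq (show (256 : ℝ) ≠ 0 by norm_num) (mul_comm (S.G 1 0) 256 ▸ hl)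
    have hM := eq_div_of_mul_eq (show (256 : ℝ) ≠ 0 by norm_num) (mul_comm (S.G 2 0) 256 ▸ hm)
    simp only [hL, hM, h0] at e3 e4 e5 e6 ⊢
    norm_num at e3 ⊢
    try simp only [e3] at e4 e5 e6 ⊢
    try norm_num at e4 ⊢
    try simp only [e4] at e5 e6 ⊢
    try norm_num at e5 ⊢
    try simp only [e5] at e6 ⊢
    try norm_num at e6 ⊢
    try simp [e3, e4, e5, e6]

end CfsgLib.Sakuma.AxSeq
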