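import Mathlib
import Cfsg.Prelude.Def_AxialAlgebras

/-!
Majorana pairs: eigenvector decomposition at an axis, the fusion identities that the
proof of the dihedral (Sakuma) theorem uses, and transport along automorphisms.
-/

set_option autoImplicit false

namespace CfsgLib.Sakuma

open Cfsg.Axial

variable {V : Type*} [AddCommGroup V] [Module ℝ V] {mul : V →ₗ[ℝ] V →ₗ[ℝ] V}
  {B : LinearMap.BilinForm ℝ V} {μ μ' : V ≃ₗ[ℝ] V} {a : V}

theorem eigen_mem_iff {c : ℝ} {v : V} : v ∈ eigen mul a c ↔ mul a v = c • v :=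
  Module.End.mem_eigenspace_iff

theorem idem (h : IsMajoranaPair mul B μ a) : mul a a = a := h.2.2.1.1.2.1

theorem exists_parts (h : IsMajoranaPair mul B μ a) (v : V) :
    ∃ (c : ℝ) (u w z : V), mul a u = 0 ∧ mul a w = (1 / 4 : ℝ) • w ∧
      mul a z = (1 / 32 : ℝ) • z ∧ μ u = u ∧ μ w = w ∧ μ z = -z ∧ μ a = a ∧
      v = c • a + u + w + z := by
  obtain ⟨-, -, ⟨⟨-, hid, htop, -⟩, hprim⟩, hfix, hneg⟩ := h
  have hv : v ∈ eigenSum mul a majoranaSpectrum := by rw [htop]; trivial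
  simp only [majoranaSpectrum, eigenSum, iSup_insert, iSup_singleton, Submodule.mem_sup] at hv
  obtain ⟨p, hp, y, ⟨q, hq, r', ⟨r, hr, s, hs, rfl⟩, rfl⟩, rfl⟩ := hv
  have mem : ∀ c ∈ ({1, 0, 1 / 4} : Set ℝ), ∀ x ∈ eigen mul a c, μ x = x := fun c hc x hx =>
    hfix x (Submodule.mem_iSup_of_mem c (Submodule.mem_iSup_of_mem hc hx))
  have hμa : μ a = a := mem 1 (by simp) a (eigen_mem_iff.mpr (by rw [hid, one_smul]))
  have hμs : μ s = -s := hneg s hs
  have hμq := mem 0 (by simp) q hq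
  have hμr := mem (1 / 4) (by simp) r hr
  rw [hprim, Submodule.mem_span_singleton] at hp
  obtain ⟨c, rfl⟩ := hp
  rw [eigen_mem_iff] at hq hr hs
  rw [zero_smul] at hq
  exact ⟨c, q, r, s, hq, hr, hs, hμq, hμr, hμs, hμa, by abel⟩

theorem fix_axis (h : IsMajoranaPair mul B μ a) : μ a = a := by
  obtain ⟨_, _, _, _, _, _, _, _, _, _, ha, _⟩ := exists_parts h a
  exact ha

/-- The involution is determined by its axis. -/
theorem pair_unique (h : IsMajoranaPair mul B μ a) (h' : IsMajoranaPair mul B μ' a) : μ = μ' := by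
  ext v
  obtain ⟨c, u, w, z, hu, hw, hz, mu, mw, mz, ma, rfl⟩ := exists_parts h v
  obtain ⟨-, -, -, hfix, hneg⟩ := h'
  have mem : ∀ c ∈ ({1, 0, 1 / 4} : Set ℝ), ∀ x, mul a x = c • x → μ' x = x := fun c hc x hx =>
    hfix x (Submodule.mem_iSup_of_mem c (Submodule.mem_iSup_of_mem hc (eigen_mem_iff.mpr hx)))
  have za : μ' a = a := mem 1 (by simp) a (by rw [idem h, one_smul])
  have zu : μ' u = u := mem 0 (by simp) u (by rw [hu, zero_smul])
  have zw : μ' w = w := mem (1 / 4) (by simp) w hw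
  have zz : μ' z = -z := hneg z (eigen_mem_iff.mpr hz)
  simp [map_add, map_smul, ma, mu, mw, mz, za, zu, zw, zz]

theorem sq_one (h : IsMajoranaPair mul B μ a) : μ * μ = 1 := by
  ext v
  obtain ⟨c, u, w, z, -, -, -, mu, mw, mz, ma, rfl⟩ := exists_parts h v
  simp [LinearEquiv.mul_apply, map_add, map_smul, ma, mu, mw, mz]

theorem mu_mu (h : IsMajoranaPair mul B μ a) (v : V) : μ (μ v) = v := by
  obtain ⟨c, u, w, z, -, -, -, mu, mw, mz, ma, rfl⟩ := exists_parts h v
  simp [map_add, map_smul, ma, mu, mw, mz]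

/-- A vector minus its image is a `1/32`-eigenvector. -/
theorem mul_sub_image (h : IsMajoranaPair mul B μ a) (v : V) :
    mul a (v - μ v) = (1 / 32 : ℝ) • (v - μ v) := by
  obtain ⟨c, u, w, z, hu, hw, hz, mu, mw, mz, ma, rfl⟩ := exists_parts h v
  simp only [map_add, map_smul, ma, mu, mw, mz, map_sub, map_neg, hz]
  module

/-- The `1/4`-part of a vector fixed by the involution. -/
noncomputable def qPart (mul : V →ₗ[ℝ] V →ₗ[ℝ] V) (B : LinearMap.BilinForm ℝ V) (a v : V) : V :=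
  (4 : ℝ) • (mul a v - B a v • a)

/-- The `0`-part of a vector fixed by the involution. -/
noncomputable def zPart (mul : V →ₗ[ℝ] V →ₗ[ℝ] V) (B : LinearMap.BilinForm ℝ V) (a v : V) : V :=
  v - B a v • a - qPart mul B a v

theorem adjoint_mul (hV : IsMajoranaAmbient mul B) (a u v : V) :
    B (mul a u) v = B u (mul a v) := by
  rw [hV.1 a u, ← hV.2.2.2.1]

theorem form_axis (hV : IsMajoranaAmbient mul B) (hid : mul a a = a) (v : V) :
    B a (mul a v) = B a v := by
  rw [hV.2.2.2.1, hid]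

theorem axis_eigen_orth (hV : IsMajoranaAmbient mul B) (hid : mul a a = a) {u : V} {c : ℝ}
    (hc : c ≠ 1) (hu : mul a u = c • u) : B a u = 0 := by
  have := form_axis hV hid u
  rw [hu, map_smul, smul_eq_mul] at this
  have : (c - 1) * B a u = 0 := by linarith
  exact (mul_eq_zero.mp this).resolve_left (sub_ne_zero.mpr hc)

theorem parts_eigen (hV : IsMajoranaAmbient mul B) (h : IsMajoranaPair mul B μ a)
    (hn : B a a = 1) {v : V} (hv : μ v = v) :
    mul a (zPart mul B a v) = 0 ∧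
      mul a (qPart mul B a v) = (1 / 4 : ℝ) • qPart mul B a v := by
  obtain ⟨c, u, w, z, hu, hw, hz, mu, mw, mz, ma, rfl⟩ := exists_parts h v
  have hid := idem h
  simp only [map_add, map_smul, ma, mu, mw, mz] at hv
  have z0 : z = 0 := by linear_combination (norm := module) (-1 / 2 : ℝ) • hv
  subst z0
  have hu0 : B a u = 0 := axis_eigen_orth hV hid (c := 0) (by norm_num) (by rw [hu, zero_smul])
  have hw0 : B a w = 0 := axis_eigen_orth hV hid (by norm_num) hw
  constructor <;>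
  · simp only [zPart, qPart, map_add, map_sub, map_smul, map_zero, smul_eq_mul, hn, hu0, hw0,
      hid, hu, hw]
    module

theorem mem_sum_one_zero {v : V} (hv : v ∈ eigenSum mul a ({1, 0} : Set ℝ)) :
    mul a (mul a v) = mul a v := by
  simp only [eigenSum, iSup_insert, iSup_singleton, Submodule.mem_sup] at hv
  obtain ⟨p, hp, q, hq, rfl⟩ := hv
  rw [eigen_mem_iff, one_smul] at hp
  rw [eigen_mem_iff, zero_smul] at hq
  simp [map_add, hp, hq]

theorem fusion (h : IsMajoranaPair mul B μ a) {c d : ℝ} (hc : c ∈ majoranaSpectrum)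
    (hd : d ∈ majoranaSpectrum) {u v : V} (hu : mul a u = c • u) (hv : mul a v = d • v) :
    mul u v ∈ eigenSum mul a (monsterLaw (1 / 4) (1 / 32) c d) :=
  h.2.2.1.1.2.2.2 c hc d hd u (eigen_mem_iff.mpr hu) v (eigen_mem_iff.mpr hv)

theorem fusion_zero_zero (h : IsMajoranaPair mul B μ a) {u v : V} (hu : mul a u = 0)
    (hv : mul a v = 0) : mul a (mul u v) = 0 := by
  have hm := fusion h (c := 0) (d := 0) (u := u) (v := v) (by simp [majoranaSpectrum])
    (by simp [majoranaSpectrum]) (by rw [hu, zero_smul]) (by rw [hv, zero_smul])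
  have : monsterLaw (1 / 4 : ℝ) (1 / 32) 0 0 = {0} := by norm_num [monsterLaw]
  rw [this] at hm
  simpa [eigenSum, eigen_mem_iff] using hm

theorem fusion_zero_quarter (h : IsMajoranaPair mul B μ a) {u v : V} (hu : mul a u = 0)
    (hv : mul a v = (1 / 4 : ℝ) • v) : mul a (mul u v) = (1 / 4 : ℝ) • mul u v := by
  have hm := fusion h (c := 0) (d := 1 / 4) (u := u) (v := v) (by simp [majoranaSpectrum])
    (by simp [majoranaSpectrum]) (by rw [hu, zero_smul]) hv
  have : monsterLaw (1 / 4 : ℝ) (1 / 32) 0 (1 / 4) = {1 / 4} := by norm_num [monsterLaw]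
  rw [this] at hm
  simpa [eigenSum, eigen_mem_iff] using hm

theorem fusion_quarter_quarter (hV : IsMajoranaAmbient mul B) (h : IsMajoranaPair mul B μ a)
    (hn : B a a = 1) {u v : V} (hu : mul a u = (1 / 4 : ℝ) • u)
    (hv : mul a v = (1 / 4 : ℝ) • v) : mul a (mul u v) = (1 / 4 * B u v) • a := by
  have hm := fusion h (c := 1 / 4) (d := 1 / 4) (u := u) (v := v) (by simp [majoranaSpectrum])
    (by simp [majoranaSpectrum]) hu hv
  have : monsterLaw (1 / 4 : ℝ) (1 / 32) (1 / 4) (1 / 4) = {1, 0} := by norm_num [monsterLaw]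
  rw [this] at hm
  have h2 := mem_sum_one_zero hm
  have h3 : mul a (mul u v) ∈ eigen mul a 1 := by rw [eigen_mem_iff, h2, one_smul]
  rw [h.2.2.1.2, Submodule.mem_span_singleton] at h3
  obtain ⟨c, hc⟩ := h3
  have h4 : B a (mul a (mul u v)) = 1 / 4 * B u v := by
    rw [form_axis hV (idem h), hV.2.2.2.1, hu, map_smul, LinearMap.smul_apply, smul_eq_mul]
  rw [← hc, map_smul, hn, smul_eq_mul, mul_one] at h4
  rw [← hc, h4]

/-- Automorphisms of the product and the form. -/
def autGroup (mul : V →ₗ[ℝ] V →ₗ[ℝ] V) (B : LinearMap.BilinForm ℝ V) : Subgroup (V ≃ₗ[ℝ] V) where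
  carrier := {g | (∀ u v, g (mul u v) = mul (g u) (g v)) ∧ ∀ u v, B (g u) (g v) = B u v}
  one_mem' := ⟨fun _ _ => rfl, fun _ _ => rfl⟩
  mul_mem' := by
    rintro g k ⟨hg, hg'⟩ ⟨hk, hk'⟩
    exact ⟨fun u v => by simp [LinearEquiv.mul_apply, hg, hk],
      fun u v => by simp [LinearEquiv.mul_apply, hg', hk']⟩
  inv_mem' := by
    rintro g ⟨hg, hg'⟩
    have e : ∀ x, g (g⁻¹ x) = x := fun x => g.apply_symm_apply x
    refine ⟨fun u v => g.injective ?_, fun u v => ?_⟩
    · rw [hg, e, e, e]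
    · rw [← hg', e, e]

theorem map_eigen {g : V ≃ₗ[ℝ] V} (hg : ∀ u v, g (mul u v) = mul (g u) (g v)) (a : V) (c : ℝ) :
    (eigen mul a c).map (g : V →ₗ[ℝ] V) = eigen mul (g a) c := by
  ext v
  simp only [Submodule.mem_map_equiv, eigen, Module.End.mem_eigenspace_iff]
  rw [← g.injective.eq_iff, hg, map_smul, g.apply_symm_apply]

theorem map_eigenSum {g : V ≃ₗ[ℝ] V} (hg : ∀ u v, g (mul u v) = mul (g u) (g v)) (a : V)
    (S : Set ℝ) : (eigenSum mul a S).map (g : V →ₗ[ℝ] V) = eigenSum mul (g a) S := by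
  simp only [eigenSum, Submodule.map_iSup, map_eigen hg]

theorem pair_map {g : V ≃ₗ[ℝ] V} (hg : g ∈ autGroup mul B) (h : IsMajoranaPair mul B μ a) :
    IsMajoranaPair mul B (g * μ * g⁻¹) (g a) := by
  have hin : g * μ * g⁻¹ ∈ autGroup mul B :=
    mul_mem (mul_mem hg ⟨h.1, h.2.1⟩) (inv_mem hg)
  obtain ⟨-, -, ⟨⟨hne, hid, htop, hfus⟩, hprim⟩, hfix, hneg⟩ := h
  have hm := hg.1
  have ap : ∀ x, (g * μ * g⁻¹) (g x) = g (μ x) := fun x => by
    simp only [LinearEquiv.mul_apply]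
    exact congrArg (fun y => g (μ y)) (g.symm_apply_apply x)
  refine ⟨hin.1, hin.2, ⟨⟨?_, ?_, ?_, ?_⟩, ?_⟩, ?_, ?_⟩
  · simpa using hne
  · rw [← hm, hid]
  · rw [← map_eigenSum hm, htop, Submodule.map_top, LinearEquiv.range]
  · intro c hc d hd u hu v hv
    rw [← map_eigen hm, Submodule.mem_map] at hu hv
    obtain ⟨u, hu', rfl⟩ := hu
    obtain ⟨v, hv', rfl⟩ := hv
    simp only [LinearEquiv.coe_coe]
    rw [← hm, ← map_eigenSum hm]
    exact Submodule.mem_map_of_mem (hfus c hc d hd u hu' v hv')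
  · rw [← map_eigen hm, hprim, Submodule.map_span, Set.image_singleton]
    rfl
  · intro v hv
    rw [← map_eigenSum hm, Submodule.mem_map] at hv
    obtain ⟨w, hw, rfl⟩ := hv
    have := hfix w hw
    simp only [LinearEquiv.coe_coe] at this ⊢
    rw [ap, this]
  · intro v hv
    rw [← map_eigen hm, Submodule.mem_map] at hv
    obtain ⟨w, hw, rfl⟩ := hv
    have := hneg w hw
    simp only [LinearEquiv.coe_coe] at this ⊢
    rw [ap, this, map_neg]

end CfsgLib.Sakuma
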