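import Cfsg.Agent.Lib.Axial.SakumaSeq

/-!
Products in the algebra spanned by consecutive axes and the linear relation among six
consecutive axes (Sakuma's relation).
-/

set_option autoImplicit false

namespace CfsgLib.Sakuma.AxSeq

open Cfsg.Axial

variable {V : Type*} [AddCommGroup V] [Module ℝ V]
  {mul : V →ₗ[ℝ] V →ₗ[ℝ] V} {B : LinearMap.BilinForm ℝ V} (S : AxSeq mul B)

theorem mul_sigma (j : ℤ) :
    mul (S.a j) (S.T 1 0) = (7 / 32 : ℝ) • S.T 1 0
      + (7 / 2048 : ℝ) • (S.a (j - 1) + S.a (j + 1))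
      + (3 / 4 * S.G 1 0 - 25 / 1024) • S.a j := by
  have h := S.mul_T 1 j
  rwa [S.T_one, S.G_one] at h

theorem form_sigma (j : ℤ) : B (S.a j) (S.T 1 0) = 31 / 32 * S.G 1 0 - 1 / 32 := by
  have h := S.form_T_self 1 j
  rwa [S.T_one, S.G_one] at h

theorem T_two_pred (i : ℤ) : S.T 2 (i - 1) = S.T 2 (i + 1) := by
  rw [← S.T_two_add (i - 1)]; congr 1; ring

theorem G_two_pred (i : ℤ) : S.G 2 (i - 1) = S.G 2 (i + 1) := by
  rw [← S.G_two_add (i - 1)]; congr 1; ring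

theorem q_form (i : ℤ) :
    B (qPart mul B (S.a i) (S.mid 1 i)) (qPart mul B (S.a i) (S.mid 1 i))
      = -1 / 16 + S.G 2 (i + 1) / 16 + 4 * S.G 1 0 - 4 * S.G 1 0 ^ 2 := by
  obtain ⟨hz, hq⟩ := parts_eigen S.amb (S.pair i) (S.norm i) (S.mid_fix 1 i)
  set Q := qPart mul B (S.a i) (S.mid 1 i) with hQ
  set Z := zPart mul B (S.a i) (S.mid 1 i) with hZ
  have h0 : B Z Q = 0 := by
    have h := adjoint_mul S.amb (S.a i) Z Q
    rw [hz, hq, map_zero, LinearMap.zero_apply, map_smul, smul_eq_mul] at h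
    linarith
  have h1 : B (Z + Q) Q = B Q Q := by rw [map_add, LinearMap.add_apply, h0, zero_add]
  rw [← h1, hZ, hQ, S.zPart_mid, S.qPart_mid, S.T_one, S.G_one]
  have e1 : B (S.a i) (S.a (i + 1)) = S.G 1 0 := S.G_one i
  have e2 : B (S.a i) (S.a (i - 1)) = S.G 1 0 := by rw [S.G_prev, S.G_one]
  have e3 : B (S.a (i + 1)) (S.a i) = S.G 1 0 := by rw [S.symm, e1]
  have e4 : B (S.a (i - 1)) (S.a i) = S.G 1 0 := by rw [S.symm, e2]
  have e5 : B (S.a (i - 1)) (S.a (i + 1)) = S.G 2 (i + 1) := by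
    rw [← S.G_two_pred, G]; congr 2; ring
  have e6 : B (S.a (i + 1)) (S.a (i - 1)) = S.G 2 (i + 1) := by rw [S.symm, e5]
  simp only [map_add, map_sub, map_smul, LinearMap.add_apply, LinearMap.sub_apply,
    LinearMap.smul_apply, smul_eq_mul, e1, e2, e3, e4, e5, e6, S.norm, S.form_sigma]
  ring

theorem mul_T_two_next (i : ℤ) :
    mul (S.a i) (S.T 2 (i + 1)) = (7 / 96 : ℝ) • S.T 2 i
      + (32 / 3 * S.G 1 0 - 19 / 48) • S.T 1 0
      + (S.G 1 0 / 6 - 19 / 3072) • (S.a (i - 1) + S.a (i + 1))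
      + (7 / 6144 : ℝ) • (S.a (i - 2) + S.a (i + 2))
      + (-127 / 3072 - S.G 2 (i + 1) / 24 + 5 / 3 * S.G 1 0 - 32 / 3 * S.G 1 0 ^ 2) • S.a i := by
  obtain ⟨hz, hq⟩ := parts_eigen S.amb (S.pair i) (S.norm i) (S.mid_fix 1 i)
  set Q := qPart mul B (S.a i) (S.mid 1 i) with hQ
  set Z := zPart mul B (S.a i) (S.mid 1 i) with hZ
  have key : mul (S.a i) (mul (Q + Z) (Q - Z)) = (1 / 4 * B Q Q) • S.a i := by
    have : mul (Q + Z) (Q - Z) = mul Q Q - mul Z Z := by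
      simp only [map_add, map_sub, LinearMap.add_apply, S.comm Z Q]
      abel
    rw [this, map_sub, fusion_zero_zero (S.pair i) hz hz,
      fusion_quarter_quarter S.amb (S.pair i) (S.norm i) hq hq, sub_zero]
  have hYp : Q + Z = (1 / 2 : ℝ) • (S.a (i + 1) + S.a (i - 1)) - S.G 1 0 • S.a i := by
    rw [hQ, hZ, zPart, S.form_mid, S.G_one, mid]; abel
  have hD : Q - Z = (8 : ℝ) • S.T 1 0 + (1 / 4 - 7 * S.G 1 0) • S.a i
      - (3 / 8 : ℝ) • (S.a (i + 1) + S.a (i - 1)) := by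
    rw [hQ, hZ, S.qPart_mid, S.zPart_mid, S.T_one, S.G_one]; module
  rw [hYp, hD, hQ, S.q_form] at key
  have m1 : mul (S.a i) (S.a (i + 1))
      = S.T 1 0 + (1 / 32 : ℝ) • (S.a i + S.a (i + 1)) := by rw [S.mul_next, S.T_one]
  have m2 : mul (S.a i) (S.a (i - 1))
      = S.T 1 0 + (1 / 32 : ℝ) • (S.a i + S.a (i - 1)) := by rw [S.mul_prev, S.T_one]
  have m3 : mul (S.a (i + 1)) (S.a (i - 1))
      = S.T 2 (i + 1) + (1 / 32 : ℝ) • (S.a (i + 1) + S.a (i - 1)) := by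
    have := S.mul_prev 2 (i + 1)
    rwa [show i + 1 - 2 = i - 1 by ring] at this
  have m4 : mul (S.a i) (S.a (i + 2))
      = S.T 2 i + (1 / 32 : ℝ) • (S.a i + S.a (i + 2)) := S.mul_next 2 i
  have m5 : mul (S.a i) (S.a (i - 2))
      = S.T 2 i + (1 / 32 : ℝ) • (S.a i + S.a (i - 2)) := S.mul_prev 2 i
  have s0 := S.mul_sigma i
  have s1 := S.mul_sigma (i + 1)
  rw [show i + 1 - 1 = i by ring, show i + 1 + 1 = i + 2 by ring] at s1
  have s2 := S.mul_sigma (i - 1)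
  rw [show i - 1 - 1 = i - 2 by ring, show i - 1 + 1 = i by ring] at s2
  simp only [map_add, map_sub, map_smul, LinearMap.add_apply, LinearMap.sub_apply,
    LinearMap.smul_apply, S.idem, m1, m2, m3, m4, m5, s0, s1, s2, S.comm (S.a (i + 1)) (S.a i),
    S.comm (S.a (i - 1)) (S.a i), S.comm (S.a (i - 1)) (S.a (i + 1))] at key
  linear_combination (norm := module) (-8 / 3 : ℝ) • key

theorem sigma_sq (i : ℤ) :
    mul (S.T 1 0) (S.T 1 0) = (-7 / 1536 : ℝ) • S.T 2 i + (7 / 2048 : ℝ) • S.T 2 (i + 1)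
      + (-13 / 1536 - 5 / 12 * S.G 1 0) • S.T 1 0
      + (-245 / 196608 + 49 / 768 * S.G 1 0) • (S.a (i - 1) + S.a (i + 1))
      + (49 / 196608 : ℝ) • (S.a (i - 2) + S.a (i + 2))
      + (-7 / 98304 + 7 / 1536 * S.G 2 (i + 1) - 7 / 384 * S.G 1 0 + 7 / 6 * S.G 1 0 ^ 2)
        • S.a i := by
  obtain ⟨hz, hq⟩ := parts_eigen S.amb (S.pair i) (S.norm i) (S.mid_fix 1 i)
  set Q := qPart mul B (S.a i) (S.mid 1 i) with hQ
  set Z := zPart mul B (S.a i) (S.mid 1 i) with hZ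
  have key : mul Z Z = mul Z (Q + Z) - (4 : ℝ) • mul (S.a i) (mul Z (Q + Z)) := by
    simp only [map_add, fusion_zero_zero (S.pair i) hz hz, fusion_zero_quarter (S.pair i) hz hq,
      add_zero, smul_smul]
    module
  have hYp : Q + Z = (1 / 2 : ℝ) • (S.a (i + 1) + S.a (i - 1)) - S.G 1 0 • S.a i := by
    rw [hQ, hZ, zPart, S.form_mid, S.G_one, mid]; abel
  rw [hYp, hZ, S.zPart_mid, S.T_one, S.G_one] at key
  have m1 : mul (S.a i) (S.a (i + 1))
      = S.T 1 0 + (1 / 32 : ℝ) • (S.a i + S.a (i + 1)) := by rw [S.mul_next, S.T_one]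
  have m2 : mul (S.a i) (S.a (i - 1))
      = S.T 1 0 + (1 / 32 : ℝ) • (S.a i + S.a (i - 1)) := by rw [S.mul_prev, S.T_one]
  have m3 : mul (S.a (i + 1)) (S.a (i - 1))
      = S.T 2 (i + 1) + (1 / 32 : ℝ) • (S.a (i + 1) + S.a (i - 1)) := by
    have := S.mul_prev 2 (i + 1)
    rwa [show i + 1 - 2 = i - 1 by ring] at this
  have m4 : mul (S.a i) (S.a (i + 2))
      = S.T 2 i + (1 / 32 : ℝ) • (S.a i + S.a (i + 2)) := S.mul_next 2 i
  have m5 : mul (S.a i) (S.a (i - 2))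
      = S.T 2 i + (1 / 32 : ℝ) • (S.a i + S.a (i - 2)) := S.mul_prev 2 i
  have s0 := S.mul_sigma i
  have s1 := S.mul_sigma (i + 1)
  rw [show i + 1 - 1 = i by ring, show i + 1 + 1 = i + 2 by ring] at s1
  have s2 := S.mul_sigma (i - 1)
  rw [show i - 1 - 1 = i - 2 by ring, show i - 1 + 1 = i by ring] at s2
  have t := S.mul_T_two_next i
  simp only [map_add, map_sub, map_smul, LinearMap.add_apply, LinearMap.sub_apply,
    LinearMap.smul_apply, S.idem, m1, m2, m3, m4, m5, s0, s1, s2, t,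
    S.comm (S.a (i + 1)) (S.a i),
    S.comm (S.a (i - 1)) (S.a i), S.comm (S.a (i - 1)) (S.a (i + 1)),
    S.comm (S.T 1 0) (S.a i), S.comm (S.T 1 0) (S.a (i + 1)),
    S.comm (S.T 1 0) (S.a (i - 1))] at key
  linear_combination (norm := module) (1 / 16 : ℝ) • key

/-- The quadratic coefficient occurring in the relation. -/
noncomputable def coef (L v : ℝ) : ℝ := (33 + 128 * v - 2304 * L + 32768 * L ^ 2) / 7

theorem relation (i : ℤ) :
    S.a (i + 3) = S.a (i - 2) - (256 * S.G 1 0 - 6) • (S.a (i + 2) - S.a (i - 1))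
      - coef (S.G 1 0) (S.G 2 i) • S.a (i + 1)
      + coef (S.G 1 0) (S.G 2 (i + 1)) • S.a i
      - (32 : ℝ) • (S.T 2 i - S.T 2 (i + 1)) := by
  have h := S.sigma_sq i
  rw [S.sigma_sq (i + 1), show i + 1 + 1 = i + 2 by ring, show i + 1 - 1 = i by ring,
    show i + 1 - 2 = i - 1 by ring, show i + 1 + 2 = i + 3 by ring, S.T_two_add, S.G_two_add] at h
  simp only [coef]
  linear_combination (norm := module) (196608 / 49 : ℝ) • h

end CfsgLib.Sakuma.AxSeq
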