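import Cfsg.Agent.Lib.Axial.SakumaRel

/-!
Inner products along a sequence of axes, and the two polynomial equations satisfied by
the inner products at distances one and two.
-/

set_option autoImplicit false

namespace CfsgLib.Sakuma.AxSeq

open Cfsg.Axial

variable {V : Type*} [AddCommGroup V] [Module ℝ V]
  {mul : V →ₗ[ℝ] V →ₗ[ℝ] V} {B : LinearMap.BilinForm ℝ V} (S : AxSeq mul B)

theorem form_T_two_other (i : ℤ) :
    B (S.a i) (S.T 2 (i + 1)) = 15 / 16 * S.G 1 0 + S.G 2 (i + 1) / 32 - 1 / 32 := by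
  have m : mul (S.a i) (S.a (i - 1))
      = S.T 1 0 + (1 / 32 : ℝ) • (S.a i + S.a (i - 1)) := by rw [S.mul_prev, S.T_one]
  have g1 : B (S.a (i + 1)) (S.a i) = S.G 1 0 := by rw [S.symm]; exact S.G_one i
  have g2 : B (S.a (i - 1)) (S.a (i + 1)) = S.G 2 (i + 1) := by
    rw [← S.G_two_pred, G]; congr 2; ring
  have g3 : B (S.a i) (S.a (i - 1)) = S.G 1 0 := by rw [S.G_prev, S.G_one]
  have g4 : B (S.a i) (S.a (i + 1)) = S.G 1 0 := S.G_one i
  rw [← S.T_two_pred, T, show i - 1 + 2 = i + 1 by ring]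
  rw [map_sub, ← S.assoc, m]
  simp only [map_add, map_smul, LinearMap.add_apply, LinearMap.smul_apply, smul_eq_mul,
    g2, g3, g4]
  rw [S.symm (S.T 1 0), S.form_sigma]
  ring

theorem G_three (i : ℤ) : S.G 3 i = S.G 3 0 := by
  obtain ⟨k, rfl | rfl⟩ := Int.even_or_odd' i
  · rw [S.G_refl 3 (2 * k) k, ← S.G_step 3 0]
    congr 1; ring
  · rw [S.G_refl 3 (2 * k + 1) (k + 2)]
    congr 1; ring

theorem form_T_two_sigma (i : ℤ) :
    B (S.T 2 i) (S.T 1 0) = 5 / 32 * (31 / 32 * S.G 1 0 - 1 / 32)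
      + 7 / 2048 * (S.G 3 0 + S.G 1 0) + (3 / 4 * S.G 1 0 - 25 / 1024) * S.G 2 i := by
  have g1 : B (S.a (i + 2)) (S.a (i - 1)) = S.G 3 0 := by
    rw [show i - 1 = i + 2 - 3 by ring, S.G_prev, S.G_three]
  have g2 : B (S.a (i + 2)) (S.a (i + 1)) = S.G 1 0 := by
    rw [show i + 1 = i + 2 - 1 by ring, S.G_prev, S.G_one]
  have g3 : B (S.a (i + 2)) (S.a i) = S.G 2 i := S.symm _ _
  rw [S.form_T_left, S.mul_sigma]
  simp only [map_add, map_smul, smul_eq_mul, g1, g2, g3, S.form_sigma]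
  ring

theorem G_two (i : ℤ) : S.G 2 i = S.G 2 0 := by
  have key : S.G 2 1 = S.G 2 0 := by
    have r := S.relation 0
    norm_num only [zero_add, zero_sub] at r
    have A := congrArg (B (S.a 0)) r
    have C := congrArg (B (S.a 1)) r
    have D := congrArg (fun v => B v (S.T 1 0)) r
    have a1 : B (S.a 0) (S.a 3) = S.G 3 0 := rfl
    have a2 : B (S.a 0) (S.a (-2)) = S.G 2 0 := by simpa using S.G_prev 2 0
    have a3 : B (S.a 0) (S.a 2) = S.G 2 0 := rfl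
    have a4 : B (S.a 0) (S.a (-1)) = S.G 1 0 := by simpa using S.G_prev 1 0
    have a5 : B (S.a 0) (S.a 1) = S.G 1 0 := rfl
    have a6 : B (S.a 0) (S.T 2 0) = 31 / 32 * S.G 2 0 - 1 / 32 := S.form_T_self 2 0
    have a7 : B (S.a 0) (S.T 2 1) = 15 / 16 * S.G 1 0 + S.G 2 1 / 32 - 1 / 32 :=
      S.form_T_two_other 0
    have c1 : B (S.a 1) (S.a 3) = S.G 2 1 := rfl
    have c2 : B (S.a 1) (S.a (-2)) = S.G 3 0 := by
      rw [S.symm, ← S.G_three (-2)]; rfl
    have c3 : B (S.a 1) (S.a 2) = S.G 1 0 := S.G_one 1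
    have c4 : B (S.a 1) (S.a (-1)) = S.G 2 1 := by simpa using S.G_prev 2 1
    have c5 : B (S.a 1) (S.a 0) = S.G 1 0 := S.symm _ _
    have c6 : B (S.a 1) (S.T 2 0) = 15 / 16 * S.G 1 0 + S.G 2 0 / 32 - 1 / 32 := by
      have := S.form_T_two_other 1
      rwa [show (1 : ℤ) + 1 = 0 + 2 by norm_num, S.T_two_add, S.G_two_add] at this
    have c7 : B (S.a 1) (S.T 2 1) = 31 / 32 * S.G 2 1 - 1 / 32 := S.form_T_self 2 1
    simp only [map_sub, map_add, map_smul, LinearMap.sub_apply, LinearMap.add_apply,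
      LinearMap.smul_apply, smul_eq_mul, S.norm, a1, a2, a3, a4, a5, a6, a7] at A
    simp only [map_sub, map_add, map_smul, LinearMap.sub_apply, LinearMap.add_apply,
      LinearMap.smul_apply, smul_eq_mul, S.norm, c1, c2, c3, c4, c5, c6, c7] at C
    simp only [map_sub, map_add, map_smul, LinearMap.sub_apply, LinearMap.add_apply,
      LinearMap.smul_apply, smul_eq_mul, S.form_sigma, S.form_T_two_sigma] at D
    simp only [coef] at A C D
    have e1 : (303 + 1920 * S.G 1 0) * (S.G 2 1 - S.G 2 0) = 0 := by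
      linear_combination (-7 : ℝ) * A - 7 * C
    have e2 : (303 / 224 - 292 / 7 * S.G 1 0) * (S.G 2 1 - S.G 2 0) = 0 := by
      linear_combination D
    rcases mul_eq_zero.mp e1 with h | h
    · rcases mul_eq_zero.mp e2 with h' | h'
      · linarith
      · linarith
    · linarith
  obtain ⟨k, rfl | rfl⟩ := Int.even_or_odd' i
  · induction k using Int.induction_on with
    | zero => norm_num
    | succ n ih => rw [mul_add, mul_one, S.G_two_add, ih]
    | pred n ih => rw [← ih, ← S.G_two_add (2 * (-n - 1))]; congr 1; ring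
  · rw [← key]
    induction k using Int.induction_on with
    | zero => norm_num
    | succ n ih =>
      rw [show 2 * ((n : ℤ) + 1) + 1 = 2 * n + 1 + 2 by ring, S.G_two_add, ih]
    | pred n ih => rw [← ih, ← S.G_two_add (2 * (-n - 1) + 1)]; congr 1; ring

theorem form_self2 (i : ℤ) : B (S.a i) (S.T 2 i) = 31 / 32 * S.G 2 0 - 1 / 32 := by
  rw [S.form_T_self, S.G_two]

theorem form_other2 (i : ℤ) :
    B (S.a i) (S.T 2 (i + 1)) = 15 / 16 * S.G 1 0 + S.G 2 0 / 32 - 1 / 32 := by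
  rw [S.form_T_two_other, S.G_two]

theorem relation' (i : ℤ) :
    S.a (i + 3) = S.a (i - 2) - (256 * S.G 1 0 - 6) • (S.a (i + 2) - S.a (i - 1))
      - coef (S.G 1 0) (S.G 2 0) • (S.a (i + 1) - S.a i)
      - (32 : ℝ) • (S.T 2 i - S.T 2 (i + 1)) := by
  rw [S.relation, S.G_two i, S.G_two (i + 1)]
  module

theorem G_three_eq : S.G 3 0 = S.G 2 0 - (256 * S.G 1 0 - 6) * (S.G 2 0 - S.G 1 0)
    - coef (S.G 1 0) (S.G 2 0) * (S.G 1 0 - 1) - 30 * (S.G 2 0 - S.G 1 0) := by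
  have r := congrArg (B (S.a 0)) (S.relation' 0)
  norm_num only [zero_add, zero_sub] at r
  have a1 : B (S.a 0) (S.a 3) = S.G 3 0 := rfl
  have a2 : B (S.a 0) (S.a (-2)) = S.G 2 0 := by simpa using S.G_prev 2 0
  have a3 : B (S.a 0) (S.a 2) = S.G 2 0 := rfl
  have a4 : B (S.a 0) (S.a (-1)) = S.G 1 0 := by simpa using S.G_prev 1 0
  have a5 : B (S.a 0) (S.a 1) = S.G 1 0 := rfl
  simp only [map_sub, map_add, map_smul, smul_eq_mul, S.norm, a1, a2, a3, a4, a5,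
    S.form_self2] at r
  have a7 := S.form_other2 0
  norm_num only [zero_add] at a7
  rw [a7] at r
  linear_combination r

theorem G_four (i : ℤ) : S.G 4 i = S.G 1 0 + (256 * S.G 1 0 - 6) * (1 - S.G 3 0)
    + coef (S.G 1 0) (S.G 2 0) * (S.G 1 0 - S.G 2 0) + 30 * (S.G 2 0 - S.G 1 0) := by
  have r := congrArg (B (S.a (i + 4))) (S.relation' (i + 2))
  rw [show i + 2 + 3 = i + 5 by ring, show i + 2 - 2 = i by ring, show i + 2 + 2 = i + 4 by ring,
    show i + 2 - 1 = i + 1 by ring, show i + 2 + 1 = i + 3 by ring] at r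
  have a1 : B (S.a (i + 4)) (S.a (i + 5)) = S.G 1 0 := by
    rw [← S.G_one (i + 4), G]; congr 2; ring
  have a2 : B (S.a (i + 4)) (S.a i) = S.G 4 i := S.symm _ _
  have a3 : B (S.a (i + 4)) (S.a (i + 1)) = S.G 3 0 := by
    rw [show i + 1 = i + 4 - 3 by ring, S.G_prev, S.G_three]
  have a4 : B (S.a (i + 4)) (S.a (i + 3)) = S.G 1 0 := by
    rw [show i + 3 = i + 4 - 1 by ring, S.G_prev, S.G_one]
  have a5 : B (S.a (i + 4)) (S.a (i + 2)) = S.G 2 0 := by
    rw [show i + 2 = i + 4 - 2 by ring, S.G_prev, S.G_two]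
  have a6 : B (S.a (i + 4)) (S.T 2 (i + 2)) = 31 / 32 * S.G 2 0 - 1 / 32 := by
    rw [← S.T_two_add (i + 2), show i + 2 + 2 = i + 4 by ring, S.form_self2]
  have a7 : B (S.a (i + 4)) (S.T 2 (i + 3))
      = 15 / 16 * S.G 1 0 + S.G 2 0 / 32 - 1 / 32 := by
    rw [← S.T_two_add (i + 3), show i + 3 + 2 = i + 4 + 1 by ring, S.form_other2]
  simp only [map_sub, map_add, map_smul, smul_eq_mul, S.norm, a1, a2, a3, a4, a5, a6, a7] at r
  linear_combination -r

theorem form_T_two_self (i : ℤ) :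
    B (S.T 2 i) (S.T 2 i) = 5 / 32 * (31 / 32 * S.G 2 0 - 1 / 32)
      + 7 / 2048 * (S.G 4 0 + 1) + (3 / 4 * S.G 2 0 - 25 / 1024) * S.G 2 0 := by
  have g1 : B (S.a (i + 2)) (S.a (i - 2)) = S.G 4 0 := by
    rw [show i - 2 = i + 2 - 4 by ring, S.G_prev, S.G_four, S.G_four]
  have g2 : B (S.a (i + 2)) (S.a i) = S.G 2 0 := (S.symm _ _).trans (S.G_two i)
  have g3 : B (S.a (i + 2)) (S.T 2 i) = 31 / 32 * S.G 2 0 - 1 / 32 := by
    rw [S.form_T_next, S.G_two]
  rw [S.form_T_left, S.mul_T]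
  simp only [map_add, map_smul, smul_eq_mul, g1, g2, g3, S.norm, S.form_self2, S.G_two i]
  ring

theorem form_T_two_cross (i : ℤ) :
    B (S.T 2 i) (S.T 2 (i + 1)) = 7 / 96 * (31 / 32 * S.G 2 0 - 1 / 32)
      + (32 / 3 * S.G 1 0 - 19 / 48) * (31 / 32 * S.G 1 0 - 1 / 32)
      + (S.G 1 0 / 6 - 19 / 3072) * (S.G 3 0 + S.G 1 0)
      + 7 / 6144 * (S.G 4 0 + 1)
      + (-127 / 3072 - S.G 2 0 / 24 + 5 / 3 * S.G 1 0 - 32 / 3 * S.G 1 0 ^ 2) * S.G 2 0
      - 1 / 16 * (15 / 16 * S.G 1 0 + S.G 2 0 / 32 - 1 / 32) := by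
  have g1 : B (S.a (i + 2)) (S.a (i - 1)) = S.G 3 0 := by
    rw [show i - 1 = i + 2 - 3 by ring, S.G_prev, S.G_three]
  have g2 : B (S.a (i + 2)) (S.a (i + 1)) = S.G 1 0 := by
    rw [show i + 1 = i + 2 - 1 by ring, S.G_prev, S.G_one]
  have g3 : B (S.a (i + 2)) (S.a (i - 2)) = S.G 4 0 := by
    rw [show i - 2 = i + 2 - 4 by ring, S.G_prev, S.G_four, S.G_four]
  have g4 : B (S.a (i + 2)) (S.a i) = S.G 2 0 := (S.symm _ _).trans (S.G_two i)
  have g5 : B (S.a (i + 2)) (S.T 2 i) = 31 / 32 * S.G 2 0 - 1 / 32 := by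
    rw [S.form_T_next, S.G_two]
  have g6 : B (S.a (i + 2)) (S.T 2 (i + 1))
      = 15 / 16 * S.G 1 0 + S.G 2 0 / 32 - 1 / 32 := by
    rw [← S.T_two_add (i + 1), show i + 1 + 2 = i + 2 + 1 by ring, S.form_other2]
  rw [S.form_T_left, S.mul_T_two_next, S.G_two (i + 1)]
  simp only [map_add, map_smul, smul_eq_mul, g1, g2, g3, g4, g5, g6, S.norm, S.form_other2,
    S.form_sigma]
  ring

end CfsgLib.Sakuma.AxSeq
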