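import Cfsg.Agent.Lib.Axial.SakumaPair

/-!
Two-sided sequences of Majorana axes reflected into each other by their involutions.
-/

set_option autoImplicit false

namespace CfsgLib.Sakuma

open Cfsg.Axial

variable {V : Type*} [AddCommGroup V] [Module ℝ V]

/-- A sequence of axes with `s i (a j) = a (2 * i - j)`. -/
structure AxSeq (mul : V →ₗ[ℝ] V →ₗ[ℝ] V) (B : LinearMap.BilinForm ℝ V) where
  amb : IsMajoranaAmbient mul B
  a : ℤ → V
  s : ℤ → (V ≃ₗ[ℝ] V)
  pair : ∀ i, IsMajoranaPair mul B (s i) (a i)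
  norm : ∀ i, B (a i) (a i) = 1
  refl : ∀ i j, s i (a j) = a (2 * i - j)

variable {mul : V →ₗ[ℝ] V →ₗ[ℝ] V} {B : LinearMap.BilinForm ℝ V} (S : AxSeq mul B)

namespace AxSeq

theorem comm (S : AxSeq mul B) (u v : V) : mul u v = mul v u := S.amb.1 u v

theorem symm (S : AxSeq mul B) (u v : V) : B u v = B v u := S.amb.2.1 u v

theorem assoc (S : AxSeq mul B) (u v w : V) : B (mul u v) w = B u (mul v w) := (S.amb.2.2.2.1 u v w).symm

theorem idem (i : ℤ) : mul (S.a i) (S.a i) = S.a i := Sakuma.idem (S.pair i)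

/-- The inner product of axes at distance `d`. -/
def G (d i : ℤ) : ℝ := B (S.a i) (S.a (i + d))

/-- The corrected product of axes at distance `d`. -/
noncomputable def T (d i : ℤ) : V :=
  mul (S.a i) (S.a (i + d)) - (1 / 32 : ℝ) • (S.a i + S.a (i + d))

theorem G_refl (d i j : ℤ) : S.G d i = S.G d (2 * j - i - d) := by
  rw [G, ← (S.pair j).2.1, S.refl, S.refl, S.symm, G]
  congr 2 <;> ring

theorem G_step (d i : ℤ) : S.G d (i - d) = S.G d i := by
  rw [S.G_refl d i i]
  congr 1
  ring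

theorem G_one (i : ℤ) : S.G 1 i = S.G 1 0 := by
  induction i using Int.induction_on with
  | zero => rfl
  | succ n ih => rw [← S.G_step 1 (n + 1), add_sub_cancel_right, ih]
  | pred n ih => rw [S.G_step 1, ih]

theorem G_two_add (i : ℤ) : S.G 2 (i + 2) = S.G 2 i := by
  rw [← S.G_step 2 (i + 2), add_sub_cancel_right]

theorem image_step (d i : ℤ) : S.s i (S.a (i + d)) = S.a (i - d) := by
  rw [S.refl]; congr 1; ring

theorem T_step (d i : ℤ) : S.T d (i - d) = S.T d i := by
  have h := mul_sub_image (S.pair i) (S.a (i + d))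
  rw [S.image_step, map_sub] at h
  simp only [T, sub_add_cancel]
  rw [S.comm (S.a (i - d))]
  linear_combination (norm := module) (-1 : ℝ) • h

theorem T_one (i : ℤ) : S.T 1 i = S.T 1 0 := by
  induction i using Int.induction_on with
  | zero => rfl
  | succ n ih => rw [← S.T_step 1 (n + 1), add_sub_cancel_right, ih]
  | pred n ih => rw [S.T_step 1, ih]

theorem T_two_add (i : ℤ) : S.T 2 (i + 2) = S.T 2 i := by
  rw [← S.T_step 2 (i + 2), add_sub_cancel_right]

theorem mul_next (d i : ℤ) :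
    mul (S.a i) (S.a (i + d)) = S.T d i + (1 / 32 : ℝ) • (S.a i + S.a (i + d)) := by
  simp only [T, sub_add_cancel]

theorem mul_prev (d i : ℤ) :
    mul (S.a i) (S.a (i - d)) = S.T d i + (1 / 32 : ℝ) • (S.a i + S.a (i - d)) := by
  rw [← S.T_step d i, T, sub_add_cancel, S.comm (S.a i)]
  module

theorem G_prev (d i : ℤ) : B (S.a i) (S.a (i - d)) = S.G d i := by
  rw [← S.G_step d i, G, sub_add_cancel, S.symm]

/-- The half-sum of the neighbours of `a i` at distance `d`. -/
noncomputable def mid (d i : ℤ) : V := (1 / 2 : ℝ) • (S.a (i + d) + S.a (i - d))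

theorem mid_fix (d i : ℤ) : S.s i (S.mid d i) = S.mid d i := by
  simp only [mid, map_smul, map_add, S.image_step, S.refl]
  rw [show 2 * i - (i - d) = i + d by ring, add_comm (S.a (i - d))]

theorem form_mid (d i : ℤ) : B (S.a i) (S.mid d i) = S.G d i := by
  have e : B (S.a i) (S.a (i + d)) = S.G d i := rfl
  simp only [mid, map_smul, map_add, e, S.G_prev, smul_eq_mul]
  ring

theorem qPart_mid (d i : ℤ) :
    qPart mul B (S.a i) (S.mid d i) = (4 : ℝ) • S.T d i + (1 / 8 - 4 * S.G d i) • S.a i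
      + (1 / 16 : ℝ) • (S.a (i + d) + S.a (i - d)) := by
  rw [qPart, S.form_mid]
  simp only [mid, map_smul, map_add, S.mul_next, S.mul_prev]
  module

theorem zPart_mid (d i : ℤ) :
    zPart mul B (S.a i) (S.mid d i) = (7 / 16 : ℝ) • (S.a (i + d) + S.a (i - d))
      + (3 * S.G d i - 1 / 8) • S.a i - (4 : ℝ) • S.T d i := by
  rw [zPart, S.qPart_mid, S.form_mid, mid]
  module

theorem mul_T (d i : ℤ) :
    mul (S.a i) (S.T d i) = (7 / 32 : ℝ) • S.T d i
      + (7 / 2048 : ℝ) • (S.a (i - d) + S.a (i + d))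
      + (3 / 4 * S.G d i - 25 / 1024) • S.a i := by
  have h := (parts_eigen S.amb (S.pair i) (S.norm i) (S.mid_fix d i)).1
  rw [S.zPart_mid] at h
  simp only [map_add, map_sub, map_smul, S.mul_next, S.mul_prev, S.idem] at h
  linear_combination (norm := module) (-1 / 4 : ℝ) • h

theorem form_T_self (d i : ℤ) : B (S.a i) (S.T d i) = 31 / 32 * S.G d i - 1 / 32 := by
  simp only [T, map_sub, map_smul, map_add, smul_eq_mul, S.norm,
    form_axis S.amb (S.idem i)]
  rw [G]; ring

theorem form_T_next (d i : ℤ) : B (S.a (i + d)) (S.T d i) = 31 / 32 * S.G d i - 1 / 32 := by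
  rw [T, S.comm (S.a i)]
  simp only [map_sub, map_smul, map_add, smul_eq_mul, S.norm,
    form_axis S.amb (S.idem (i + d))]
  rw [S.symm (S.a (i + d)) (S.a i), G]; ring

theorem form_T_left (d i : ℤ) (y : V) :
    B (S.T d i) y = B (S.a (i + d)) (mul (S.a i) y)
      - 1 / 32 * (B (S.a i) y + B (S.a (i + d)) y) := by
  simp only [T, map_sub, map_smul, map_add, LinearMap.sub_apply, LinearMap.smul_apply,
    LinearMap.add_apply, smul_eq_mul]
  rw [S.comm (S.a i) (S.a (i + d)), S.assoc]

end AxSeq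

end CfsgLib.Sakuma
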